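import Cfsg.Agent.H644.KGV.Defs

/-!
# Hasse-Davenport product formula for an odd prime, non-split form
-/

set_option autoImplicit false

namespace Cfsg.Agent.H295.KGV

open Cfsg Finset Cfsg.Agent.H644.KGV

/-! ### Congruences modulo a prime -/

/-- Fixed points of a map of prime period, on a stable subset. -/
theorem card_modEq {α : Type*} [Fintype α] [DecidableEq α] (φ : α → α) (l : ℕ) [Fact l.Prime]
    (hφ : ∀ y, φ^[l] y = y) (P : α → Prop) [DecidablePred P] (hP : ∀ y, P y → P (φ y)) :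
    #{y | P y} ≡ #{y | φ y = y ∧ P y} [MOD l] := by
  classical
  let f : Function.End {y // P y} := Subtype.map φ hP
  have hf : f ^ l ^ 1 = 1 := by
    have hval : ∀ (n : ℕ) (y : {y // P y}), (((f ^ n : Function.End _) y : {y // P y}) : α)
        = φ^[n] y := by
      intro n
      induction n with
      | zero => intro y; rfl
      | succ n ih =>
        intro y
        rw [pow_succ, Function.iterate_succ_apply]
        exact ih (f y)
    funext y
    apply Subtype.ext
    rw [pow_one, hval, hφ]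
    rfl
  have h := Equiv.Perm.card_fixedPoints_modEq (α := {y // P y}) hf
  have h1 : Fintype.card {y // P y} = #{y | P y} := Fintype.card_subtype P
  have h2 : Fintype.card f.fixedPoints = #{y | φ y = y ∧ P y} := by
    rw [← Fintype.card_subtype]
    refine Fintype.card_congr ⟨fun y => ⟨y.1.1, ?_, y.1.2⟩, fun y => ⟨⟨y.1, y.2.2⟩, ?_⟩, ?_, ?_⟩
    · exact congrArg Subtype.val y.2
    · exact Subtype.ext y.2.1
    · intro y; rfl
    · intro y; rfl
  rw [h1, h2] at h
  exact h

/-- The sum of an invariant function is congruent to the sum over the fixed points. -/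
theorem sum_modEq {α : Type*} [Fintype α] [DecidableEq α] (φ : α → α) (l : ℕ) [Fact l.Prime]
    (hφ : ∀ y, φ^[l] y = y) (F : α → ℂ) (hF : ∀ y, F (φ y) = F y)
    (hi : ∀ y, IsIntegral ℤ (F y)) :
    ∃ w : ℂ, IsIntegral ℤ w ∧ ∑ y, F y = (∑ y with φ y = y, F y) + l * w := by
  classical
  have key : ∀ v : ℂ, ∃ n : ℤ, (#{y | F y = v} : ℤ) = (#{y | φ y = y ∧ F y = v} : ℤ) + l * n := by
    intro v
    have h := card_modEq φ l hφ (fun y => F y = v) (fun y hy => (hF y).trans hy)
    have h2 := (Nat.modEq_iff_dvd.1 h.symm)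
    obtain ⟨n, hn⟩ := h2
    exact ⟨n, by linarith⟩
  choose n hn using key
  refine ⟨∑ v ∈ univ.image F, (n v : ℂ) * v, ?_, ?_⟩
  · refine IsIntegral.sum _ fun v hv => ?_
    obtain ⟨y, -, rfl⟩ := Finset.mem_image.1 hv
    exact (isIntegral_algebraMap (R := ℤ) (A := ℂ) (x := n (F y))).mul (hi y)
  · have h1 : ∑ y, F y = ∑ v ∈ univ.image F, (#{y | F y = v} : ℂ) * v := by
      rw [← Finset.sum_fiberwise_of_maps_to (s := univ) (t := univ.image F) (g := F)
        (fun y _ => Finset.mem_image_of_mem F (Finset.mem_univ y))]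
      refine Finset.sum_congr rfl fun v _ => ?_
      rw [Finset.sum_congr rfl (fun y hy => (Finset.mem_filter.1 hy).2), Finset.sum_const,
        nsmul_eq_mul]
    have h2 : ∑ y with φ y = y, F y = ∑ v ∈ univ.image F, (#{y | φ y = y ∧ F y = v} : ℂ) * v := by
      rw [← Finset.sum_fiberwise_of_maps_to (s := univ.filter fun y => φ y = y)
        (t := univ.image F) (g := F) (fun y _ => Finset.mem_image_of_mem F (Finset.mem_univ y))]
      refine Finset.sum_congr rfl fun v _ => ?_
      rw [Finset.sum_congr rfl (fun y hy => (Finset.mem_filter.1 hy).2), Finset.sum_const,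
        nsmul_eq_mul, Finset.filter_filter]
    rw [h1, h2, Finset.mul_sum, ← Finset.sum_add_distrib]
    refine Finset.sum_congr rfl fun v _ => ?_
    have h3 : ((#{y | F y = v} : ℤ) : ℂ) = ((#{y | φ y = y ∧ F y = v} : ℤ) + l * n v : ℤ) := by
      rw [hn v]
    push_cast at h3
    rw [h3]
    ring

theorem not_isIntegral_inv {l : ℕ} (hl : 1 < l) {w : ℂ} (hw : IsIntegral ℤ w) :
    (l : ℂ) * w ≠ 1 := by
  intro h
  have hl0 : (l : ℂ) ≠ 0 := by
    have : l ≠ 0 := by omega
    exact_mod_cast this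
  have h1 : w = algebraMap ℚ ℂ (1 / l) := by
    rw [eq_comm]
    simp only [one_div, map_inv₀, map_natCast]
    rw [inv_eq_of_mul_eq_one_right h]
  rw [h1, isIntegral_algebraMap_iff (algebraMap ℚ ℂ).injective] at hw
  obtain ⟨y, hy⟩ := IsIntegrallyClosed.isIntegral_iff.1 hw
  have hl0' : (l : ℚ) ≠ 0 := by
    have : l ≠ 0 := by omega
    exact_mod_cast this
  have h2 : (l : ℚ) * y = 1 := by
    have : (y : ℚ) = 1 / l := hy
    rw [this]
    field_simp
  have h3 : (l : ℤ) * y = 1 := by exact_mod_cast h2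
  have h4 : (l : ℤ) ∣ 1 := ⟨y, h3.symm⟩
  have h5 := Int.le_of_dvd one_pos h4
  omega

/-- A root of unity of odd prime order is not congruent to `1` modulo the prime. -/
theorem eq_one_of_modEq {l : ℕ} (hl : l.Prime) (hl2 : l ≠ 2) {u w : ℂ} (hu : u ^ l = 1)
    (hw : IsIntegral ℤ w) (h : u - 1 = l * w) : u = 1 := by
  by_contra hne
  have hprim : IsPrimitiveRoot u l := by
    have := Fact.mk hl
    have := orderOf_eq_prime hu hne
    exact this ▸ IsPrimitiveRoot.orderOf u
  have hui : IsIntegral ℤ u := by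
    refine IsIntegral.of_pow hl.pos ?_
    rw [hu]
    exact isIntegral_one
  have hk : ∀ k : ℕ, ∃ z : ℂ, IsIntegral ℤ z ∧ 1 - u ^ k = l * z := by
    intro k
    refine ⟨-(∑ i ∈ range k, u ^ i) * w, ?_, ?_⟩
    · exact (IsIntegral.sum _ fun i _ => hui.pow i).neg.mul hw
    · have := geom_sum_mul u k
      have h2 : u ^ k - 1 = (∑ i ∈ range k, u ^ i) * (l * w) := by rw [← h, this]
      linear_combination -h2
  choose z hz hzu using hk
  obtain ⟨m, rfl⟩ : ∃ m, l = m + 3 := by
    have := hl.two_le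
    exact ⟨l - 3, by omega⟩
  have hp := IsPrimitiveRoot.prod_one_sub_pow_eq_order (n := m + 2) hprim
  rw [Finset.prod_congr rfl (fun k _ => hzu (k + 1)), Finset.prod_mul_distrib,
    Finset.prod_const, Finset.card_range] at hp
  set Z := ∏ k ∈ range (m + 2), z (k + 1) with hZ
  have hZi : IsIntegral ℤ Z := IsIntegral.prod _ fun k _ => hz _
  have h0 : ((m + 3 : ℕ) : ℂ) ≠ 0 := by exact_mod_cast (by omega : m + 3 ≠ 0)
  have hp2 : ((m + 3 : ℕ) : ℂ) * (((m + 3 : ℕ) : ℂ) ^ m * Z) = 1 := by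
    have h3 : ((m + 3 : ℕ) : ℂ) * (((m + 3 : ℕ) : ℂ) * (((m + 3 : ℕ) : ℂ) ^ m * Z)) =
        ((m + 3 : ℕ) : ℂ) * 1 := by
      have : ((m + 3 : ℕ) : ℂ) = ((m + 2 : ℕ) : ℂ) + 1 := by push_cast; ring
      rw [mul_one]
      conv_rhs => rw [this]
      rw [← hp]
      ring
    exact mul_left_cancel₀ h0 h3
  refine not_isIntegral_inv (by omega) ?_ hp2
  have hi := (isIntegral_algebraMap (R := ℤ) (A := ℂ) (x := ((m + 3 : ℕ) : ℤ))).pow m
  have hi2 := hi.mul hZi
  simpa using hi2

/-! ### Characters of finite fields -/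

section fields

variable {K L : Type} [Field K] [Fintype K] [Field L] [Fintype L] [Algebra K L]

theorem mulNorm_apply (χ : MulChar K ℂ) (y : L) : mulNorm χ y = χ (Algebra.norm K y) := by
  by_cases hy : y = 0
  · subst hy
    rw [Algebra.norm_zero, MulChar.map_zero, MulChar.map_zero]
  · obtain ⟨u, rfl⟩ : ∃ u : Lˣ, (u : L) = y := ⟨Units.mk0 y hy, rfl⟩
    rw [mulNorm, MulChar.ofUnitHom_coe]
    rfl

theorem mulNorm_pow (χ : MulChar K ℂ) (n : ℕ) :
    (mulNorm χ : MulChar L ℂ) ^ n = mulNorm (χ ^ n) := by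
  ext u
  rw [MulChar.pow_apply_coe, mulNorm_apply, mulNorm_apply]
  have hu : IsUnit (Algebra.norm K (u : L)) := u.isUnit.map _
  obtain ⟨v, hv⟩ := hu
  rw [← hv, MulChar.pow_apply_coe]

theorem mulNorm_one : (mulNorm (1 : MulChar K ℂ) : MulChar L ℂ) = 1 := by
  ext u
  rw [mulNorm_apply, MulChar.one_apply_coe]
  exact MulChar.one_apply (u.isUnit.map _)

theorem pow_card_sub_one (χ : MulChar K ℂ) : χ ^ (Fintype.card K - 1) = 1 := by
  ext u
  rw [MulChar.pow_apply_coe, MulChar.one_apply_coe, ← map_pow,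
    FiniteField.pow_card_sub_one_eq_one _ u.ne_zero, map_one]

theorem addTrace_apply (ψ : AddChar K ℂ) (y : L) :
    addTrace L ψ y = ψ (Algebra.trace K L y) := rfl

theorem addTrace_ne_one {ψ : AddChar K ℂ} (hψ : ψ ≠ 1) : addTrace L ψ ≠ 1 := by
  intro h
  apply hψ
  ext x
  obtain ⟨y, rfl⟩ := Algebra.trace_surjective K L x
  rw [← addTrace_apply, h]
  rfl

theorem addTrace_mulShift (ψ : AddChar K ℂ) (a : K) :
    addTrace L (ψ.mulShift a) = (addTrace L ψ).mulShift (algebraMap K L a) := by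
  ext y
  rw [addTrace_apply, AddChar.mulShift_apply, AddChar.mulShift_apply, addTrace_apply,
    ← Algebra.smul_def, map_smul, smul_eq_mul]

theorem trace_frob (y : L) :
    Algebra.trace K L (y ^ Fintype.card K) = Algebra.trace K L y := by
  have h := Algebra.trace_eq_of_algEquiv (FiniteField.frobeniusAlgEquivOfAlgebraic K L) y
  exact h

/-- Gauss sums are invariant under the Frobenius automorphism. -/
theorem gaussSum_frob (χ : MulChar L ℂ) (ψ : AddChar K ℂ) :
    gaussSum (χ ^ Fintype.card K) (addTrace L ψ) = gaussSum χ (addTrace L ψ) := by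
  unfold gaussSum
  have hb : Function.Bijective (fun y : L => y ^ Fintype.card K) :=
    (FiniteField.frobeniusAlgEquivOfAlgebraic K L).bijective
  refine Fintype.sum_bijective _ hb _ _ fun y => ?_
  rw [addTrace_apply, addTrace_apply, trace_frob, map_pow,
    MulChar.pow_apply' _ Fintype.card_ne_zero]

theorem mem_range_of_pow_card {y : L} (hy : y ^ Fintype.card K = y) :
    ∃ x : K, algebraMap K L x = y := by
  classical
  have h1 : (univ.image (algebraMap K L)) = ({y | y ^ Fintype.card K = y} : Finset L) := by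
    apply Finset.eq_of_subset_of_card_le
    · intro z hz
      obtain ⟨x, -, rfl⟩ := Finset.mem_image.1 hz
      rw [Finset.mem_filter]
      exact ⟨Finset.mem_univ _, by rw [← map_pow, FiniteField.pow_card]⟩
    · rw [Finset.card_image_of_injective _ (algebraMap K L).injective, Finset.card_univ]
      have hne : (Polynomial.X ^ Fintype.card K - Polynomial.X : Polynomial L) ≠ 0 :=
        FiniteField.X_pow_card_sub_X_ne_zero L Fintype.one_lt_card
      have hsub : ({y | y ^ Fintype.card K = y} : Finset L) ⊆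
          (Polynomial.X ^ Fintype.card K - Polynomial.X : Polynomial L).roots.toFinset := by
        intro z hz
        rw [Multiset.mem_toFinset, Polynomial.mem_roots hne, Polynomial.IsRoot.def,
          Polynomial.eval_sub, Polynomial.eval_pow, Polynomial.eval_X,
          (Finset.mem_filter.1 hz).2, sub_self]
      refine (Finset.card_le_card hsub).trans ((Multiset.toFinset_card_le _).trans ?_)
      refine (Polynomial.card_roots' _).trans ?_
      rw [FiniteField.X_pow_card_sub_X_natDegree_eq L Fintype.one_lt_card]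
  have h2 : y ∈ univ.image (algebraMap K L) := by
    rw [h1, Finset.mem_filter]
    exact ⟨Finset.mem_univ _, hy⟩
  obtain ⟨x, -, hx⟩ := Finset.mem_image.1 h2
  exact ⟨x, hx⟩

theorem isIntegral_mulChar (χ : MulChar L ℂ) (y : L) : IsIntegral ℤ (χ y) := by
  by_cases hy : y = 0
  · subst hy
    rw [MulChar.map_zero]
    exact isIntegral_zero
  · refine IsIntegral.of_pow (n := Fintype.card L - 1) ?_ ?_
    · have := Fintype.one_lt_card (α := L)
      omega
    · rw [← map_pow, FiniteField.pow_card_sub_one_eq_one _ hy, map_one]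
      exact isIntegral_one

theorem isIntegral_addChar (ψ : AddChar L ℂ) (y : L) : IsIntegral ℤ (ψ y) := by
  refine IsIntegral.of_pow (n := Fintype.card L) Fintype.card_pos ?_
  rw [← AddChar.map_nsmul_eq_pow, card_nsmul_eq_zero, AddChar.map_zero_eq_one]
  exact isIntegral_one

theorem isIntegral_gaussSum (χ : MulChar L ℂ) (ψ : AddChar L ℂ) :
    IsIntegral ℤ (gaussSum χ ψ) :=
  IsIntegral.sum _ fun y _ => (isIntegral_mulChar χ y).mul (isIntegral_addChar ψ y)

/-- The absolute value of a Gauss sum. -/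
theorem gaussSum_mul_star (χ : MulChar L ℂ) {ψ : AddChar L ℂ} (hψ : ψ ≠ 1) :
    ∃ k : ℕ, gaussSum χ ψ * star (gaussSum χ ψ) = (Fintype.card L : ℂ) ^ k := by
  by_cases hχ : χ = 1
  · subst hχ
    refine ⟨0, ?_⟩
    rw [gaussSum_one_left hψ]
    simp
  · refine ⟨1, ?_⟩
    rw [star_gaussSum_eq, pow_one]
    exact gaussSum_mul_gaussSum_eq_card hχ (AddChar.IsPrimitive.of_ne_one hψ)

/-! ### The congruence -/

theorem pow_modEq (d l i : ℕ) (h : l ∣ d) : (1 + d) ^ i ≡ 1 + i * d [MOD l * d] := by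
  induction i with
  | zero => simp [Nat.ModEq]
  | succ i ih =>
    rw [pow_succ]
    refine (ih.mul_right (1 + d)).trans ?_
    have h1 : (1 + i * d) * (1 + d) = 1 + (i + 1) * d + i * (d * d) := by ring
    rw [h1]
    have h2 : l * d ∣ i * (d * d) := (Nat.mul_dvd_mul_right h d).mul_left i
    have h3 := (Nat.modEq_zero_iff_dvd.2 h2).add_left (1 + (i + 1) * d)
    simpa using h3

theorem geom_modEq {q l : ℕ} (hq : 1 ≤ q) (hl : Odd l) (h : l ∣ q - 1) :
    ∑ i ∈ range l, q ^ i ≡ l [MOD l * (q - 1)] := by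
  obtain ⟨d, rfl⟩ : ∃ d, q = 1 + d := ⟨q - 1, by omega⟩
  rw [Nat.add_sub_cancel_left] at h ⊢
  have h1 : ∑ i ∈ range l, (1 + d) ^ i ≡ ∑ i ∈ range l, (1 + i * d) [MOD l * d] := by
    refine Nat.ModEq.sum fun i _ => ?_
    exact pow_modEq d l i h
  refine h1.trans ?_
  rw [Finset.sum_add_distrib, ← Finset.sum_mul, Finset.sum_const, Finset.card_range,
    smul_eq_mul, mul_one]
  obtain ⟨m, rfl⟩ := hl
  have h2 : ∑ i ∈ range (2 * m + 1), i = (2 * m + 1) * m := by
    have := Finset.sum_range_id_mul_two (2 * m + 1)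
    have h3 : (2 * m + 1) * (2 * m + 1 - 1) = ((2 * m + 1) * m) * 2 := by
      rw [Nat.add_sub_cancel]; ring
    rw [h3] at this
    exact Nat.eq_of_mul_eq_mul_right (by norm_num) this
  rw [h2]
  have h3 : (2 * m + 1) * d ∣ (2 * m + 1) * m * d := ⟨m, by ring⟩
  simpa using (Nat.modEq_zero_iff_dvd.2 h3).add_left (2 * m + 1)

theorem char_restrict (X : MulChar L ℂ) (Y : MulChar K ℂ) (l : ℕ)
    (hl : Odd l) (hlq : l ∣ Fintype.card K - 1) (hfin : Module.finrank K L = l)
    (hXY : X ^ l = mulNorm Y) {x : K} (hx : x ≠ 0) : X (algebraMap K L x) = Y x := by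
  have hl0 : l ≠ 0 := by
    rintro rfl
    exact absurd hl (by decide)
  obtain ⟨y, rfl⟩ := FiniteField.norm_surjective K L x
  have hyl : X y ^ l = Y (Algebra.norm K y) := by
    rw [← MulChar.pow_apply' X hl0 y, hXY, mulNorm_apply]
  rw [FiniteField.algebraMap_norm_eq_pow_sum, map_pow, hfin, ← hyl]
  refine pow_eq_pow_of_modEq (n := l * (Fintype.card K - 1)) ?_ ?_
  · rw [Nat.card_eq_fintype_card]
    exact geom_modEq Fintype.card_pos hl hlq
  · rw [pow_mul, hyl, ← map_pow, FiniteField.pow_card_sub_one_eq_one _ hx, map_one]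

theorem gaussSum_modEq (X : MulChar L ℂ) (Y : MulChar K ℂ) (ψ : AddChar K ℂ) (l : ℕ)
    (hl : l.Prime) (hl2 : l ≠ 2) (hlq : l ∣ Fintype.card K - 1) (hfin : Module.finrank K L = l)
    (hXY : X ^ l = mulNorm Y) :
    ∃ w : ℂ, IsIntegral ℤ w ∧
      gaussSum X (addTrace L ψ) = gaussSum Y (ψ.mulShift (l : K)) + l * w := by
  classical
  have := Fact.mk hl
  have hodd : Odd l := hl.odd_of_ne_two hl2
  set q := Fintype.card K with hq
  have hq1 : 1 < q := Fintype.one_lt_card
  obtain ⟨n, hn⟩ := hlq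
  have hlq : l ∣ q - 1 := ⟨n, hn⟩
  let r : L → ℂ := fun y => X y ^ (q - 1)
  let f : L → ℂ := fun y => X y * addTrace L ψ y
  have hr0 : ∀ y, y ≠ 0 → r y ^ l = 1 := by
    intro y hy
    have h1 : X y ^ l = Y (Algebra.norm K y) := by
      rw [← MulChar.pow_apply' X hl.ne_zero y, hXY, mulNorm_apply]
    have h2 : Algebra.norm K y ≠ 0 := Algebra.norm_ne_zero_iff.2 hy
    change (X y ^ (q - 1)) ^ l = 1
    rw [← pow_mul, mul_comm, pow_mul, h1, ← map_pow, hq,
      FiniteField.pow_card_sub_one_eq_one _ h2, map_one]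
  have hrq : ∀ y, r (y ^ q) = r y := by
    intro y
    by_cases hy : y = 0
    · subst hy
      rw [zero_pow (by omega)]
    · change (X (y ^ q)) ^ (q - 1) = _
      rw [map_pow, ← pow_mul, mul_comm, pow_mul]
      change r y ^ q = r y
      obtain ⟨m, hm⟩ : ∃ m, q = l * n + 1 := ⟨0, by omega⟩
      rw [hm, pow_succ, pow_mul, hr0 y hy, one_pow, one_mul]
  have hfq : ∀ y, f (y ^ q) = f y * r y := by
    intro y
    change X (y ^ q) * addTrace L ψ (y ^ q) = X y * addTrace L ψ y * X y ^ (q - 1)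
    rw [map_pow, addTrace_apply, addTrace_apply, hq, trace_frob, ← hq]
    have : X y ^ q = X y * X y ^ (q - 1) := by
      rw [← pow_succ']
      congr 1
      omega
    rw [this]
    ring
  have hb : Function.Bijective (fun y : L => y ^ q) :=
    (FiniteField.frobeniusAlgEquivOfAlgebraic K L).bijective
  have hA : ∀ h : ℂ → ℂ, ∑ y, f y * h (r y) * (1 - r y) = 0 := by
    intro h
    have h1 : ∑ y, f y * h (r y) = ∑ y, f y * r y * h (r y) := by
      symm
      refine Fintype.sum_bijective _ hb _ _ fun y => ?_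
      rw [hfq, hrq]
    have h2 : ∑ y, f y * h (r y) * (1 - r y) = ∑ y, f y * h (r y) - ∑ y, f y * r y * h (r y) := by
      rw [← Finset.sum_sub_distrib]
      exact Finset.sum_congr rfl fun y _ => by ring
    rw [h2, h1, sub_self]
  let F : L → ℂ := fun y => if r y = 1 then f y else 0
  have hB : gaussSum X (addTrace L ψ) = ∑ y, F y := by
    have h1 := hA (fun z => if z = 1 then 0 else (1 - z)⁻¹)
    have h2 : ∑ y, f y - ∑ y, F y = 0 := by
      rw [← Finset.sum_sub_distrib, ← h1]
      refine Finset.sum_congr rfl fun y _ => ?_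
      by_cases hy : r y = 1
      · simp only [F, if_pos hy, mul_zero, sub_self, zero_mul]
      · simp only [F, if_neg hy, sub_zero]
        rw [mul_assoc, inv_mul_cancel₀ (sub_ne_zero.2 (Ne.symm hy)), mul_one]
    exact sub_eq_zero.1 h2
  have hFq : ∀ y, F (y ^ q) = F y := by
    intro y
    simp only [F]
    rw [hrq, hfq]
    by_cases hy : r y = 1
    · rw [if_pos hy, if_pos hy, hy, mul_one]
    · rw [if_neg hy, if_neg hy]
  have hFi : ∀ y, IsIntegral ℤ (F y) := by
    intro y
    simp only [F]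
    split_ifs
    · exact (isIntegral_mulChar X y).mul (isIntegral_addChar _ y)
    · exact isIntegral_zero
  obtain ⟨w, hw, hsum⟩ := sum_modEq (fun y : L => y ^ q) l (by
    intro y
    rw [pow_iterate]
    change y ^ (q ^ l) = y
    have h1 : q ^ l = Fintype.card L := by
      rw [Module.card_eq_pow_finrank (K := K) (V := L), hfin]
    rw [h1, FiniteField.pow_card]) F hFq hFi
  refine ⟨w, hw, ?_⟩
  rw [hB, hsum]
  congr 1
  unfold gaussSum
  symm
  refine Finset.sum_nbij (algebraMap K L) ?_ ?_ ?_ ?_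
  · intro x _
    rw [Finset.mem_filter]
    refine ⟨Finset.mem_univ _, ?_⟩
    change algebraMap K L x ^ q = _
    rw [← map_pow, hq, FiniteField.pow_card]
  · exact (algebraMap K L).injective.injOn
  · intro y hy
    have hy2 : y ^ q = y := (Finset.mem_filter.1 (Finset.mem_coe.1 hy)).2
    obtain ⟨x, hx⟩ := mem_range_of_pow_card hy2
    exact ⟨x, by simp, hx⟩
  · intro x _
    by_cases hx : x = 0
    · subst hx
      simp only [F, f, map_zero, MulChar.map_zero, zero_mul, ite_self]
    · have h1 : r (algebraMap K L x) = 1 := by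
        change X (algebraMap K L x) ^ (q - 1) = 1
        rw [← map_pow, ← map_pow, hq, FiniteField.pow_card_sub_one_eq_one _ hx, map_one, map_one]
      simp only [F, if_pos h1, f]
      rw [char_restrict X Y l hodd hlq hfin hXY hx, addTrace_apply, Algebra.trace_algebraMap,
        hfin, AddChar.mulShift_apply, nsmul_eq_mul]

end fields

/-- The non-split form of the Hasse-Davenport product formula for an odd prime. -/
theorem hdOddNS (h1 : HDLift) (h3 : HDOdd) : HDOddNS := by
  intro K L _ _ _ _ _ X Y ψ l hψ hl hl2 hlq hfin hXY hX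
  have := Fact.mk hl
  set q := Fintype.card K with hq
  have hq1 : 1 < q := Fintype.one_lt_card
  have hodd : Odd l := hl.odd_of_ne_two hl2
  have hcardL : Fintype.card L = q ^ l := by
    rw [Module.card_eq_pow_finrank (K := K) (V := L), hfin]
  have hlK : (l : K) ≠ 0 := by
    intro h0
    obtain ⟨n, hn⟩ := hlq
    have h2 : (q : K) = 0 := FiniteField.cast_card_eq_zero K
    have h4 : q = l * n + 1 := by omega
    rw [h4] at h2
    push_cast at h2
    rw [h0, zero_mul, zero_add] at h2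
    exact one_ne_zero h2
  set ψl : AddChar K ℂ := ψ.mulShift (l : K) with hψl
  have hψl1 : ψl ≠ 1 := by
    have h2 := (AddChar.IsPrimitive.of_ne_one hψ) hlK
    exact h2
  set ψL : AddChar L ℂ := addTrace L ψ with hψL
  have hψL1 : ψL ≠ 1 := addTrace_ne_one hψ
  -- the character of order `l`
  set ρ : MulChar L ℂ := X ^ (q - 1) with hρ
  have hρl : ρ ^ l = 1 := by
    rw [hρ, ← pow_mul, mul_comm, pow_mul, hXY, mulNorm_pow, pow_card_sub_one, mulNorm_one]
  have hρo : orderOf ρ = l := orderOf_eq_prime hρl hX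
  have hρq : ρ ^ q = ρ := by
    obtain ⟨n, hn⟩ := hlq
    have h4 : q = l * n + 1 := by omega
    rw [h4, pow_succ, pow_mul, hρl, one_pow, one_mul]
  have hg : ∀ i : ℕ, gaussSum (X * ρ ^ i) ψL = gaussSum X ψL := by
    intro i
    induction i with
    | zero => rw [pow_zero, mul_one]
    | succ i ih =>
      have h5 : X * ρ ^ (i + 1) = (X * ρ ^ i) ^ q := by
        have h6 : X ^ q = X * ρ := by
          rw [hρ, ← pow_succ']
          congr 1
          omega
        have h7 : (ρ ^ i) ^ q = ρ ^ i := by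
          rw [pow_right_comm, hρq]
        rw [mul_pow, h6, h7, pow_succ', mul_assoc]
      rw [h5, hψL, gaussSum_frob, ← hψL, ih]
  set A : ℂ := -gaussSum X ψL with hA
  set B : ℂ := -gaussSum Y ψl * (q : ℂ) ^ ((l - 1) / 2) with hB
  have hpow : A ^ l = B ^ l := by
    have h5 := h3 L X ρ ψL l hψL1 hl hl2 hρo
    rw [Finset.prod_congr rfl (fun i _ => congrArg Neg.neg (hg i)), Finset.prod_const,
      Finset.card_range] at h5
    have h6 : ψL.mulShift (l : L) = addTrace L ψl := by
      rw [hψl, addTrace_mulShift, map_natCast]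
    rw [hA, h5, hXY, h6, h1 K L Y ψl hψl1, hfin, hcardL, hB, mul_pow]
    congr 1
    push_cast
    rw [← pow_mul, ← pow_mul, mul_comm]
  -- congruence
  obtain ⟨w, hw, hwe⟩ := gaussSum_modEq X Y ψ l hl hl2 hlq hfin hXY
  have hqi : ∀ k : ℕ, ∃ n : ℤ, (q : ℂ) ^ k = 1 + l * n := by
    intro k
    have h5 : (l : ℤ) ∣ (q : ℤ) ^ k - 1 := by
      have h6 : (l : ℤ) ∣ (q : ℤ) - 1 := by
        obtain ⟨n, hn⟩ := hlq
        exact ⟨n, by omega⟩
      exact h6.trans (sub_one_dvd_pow_sub_one (q : ℤ) k)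
    obtain ⟨n, hn⟩ := h5
    refine ⟨n, ?_⟩
    have h7 : (((q : ℤ) ^ k - 1 : ℤ) : ℂ) = ((l * n : ℤ) : ℂ) := by rw [hn]
    push_cast at h7
    linear_combination h7
  have hgi : IsIntegral ℤ (gaussSum Y ψl) := isIntegral_gaussSum Y ψl
  obtain ⟨n1, hn1⟩ := hqi ((l - 1) / 2)
  have hAB : ∃ w' : ℂ, IsIntegral ℤ w' ∧ A - B = l * w' := by
    refine ⟨-w + gaussSum Y ψl * n1, ?_, ?_⟩
    · exact hw.neg.add (hgi.mul (isIntegral_algebraMap (R := ℤ) (A := ℂ) (x := n1)))
    · rw [hA, hB, hn1, hwe]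
      ring
  obtain ⟨w', hw', hAB⟩ := hAB
  obtain ⟨k, hk⟩ := gaussSum_mul_star Y hψl1
  have hq0 : (q : ℂ) ≠ 0 := by
    have : q ≠ 0 := by omega
    exact_mod_cast this
  have hY0 : gaussSum Y ψl ≠ 0 := by
    intro h0
    rw [h0, zero_mul] at hk
    exact pow_ne_zero k hq0 hk.symm
  have hB0 : B ≠ 0 := mul_ne_zero (neg_ne_zero.2 hY0) (pow_ne_zero _ hq0)
  set u : ℂ := A / B with hu
  have hul : u ^ l = 1 := by
    rw [hu, div_pow, hpow, div_self (pow_ne_zero _ hB0)]
  have hAu : A = u * B := by rw [hu, div_mul_cancel₀ _ hB0]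
  have hui : IsIntegral ℤ u := by
    refine IsIntegral.of_pow hl.pos ?_
    rw [hul]
    exact isIntegral_one
  -- `(u - 1) q ^ m = l * integral`
  have hBs : B * (-star (gaussSum Y ψl) * (q : ℂ) ^ ((l - 1) / 2)) =
      (q : ℂ) ^ (k + ((l - 1) / 2 + (l - 1) / 2)) := by
    rw [hB, pow_add, pow_add, hq, ← hk]
    ring
  obtain ⟨n2, hn2⟩ := hqi (k + ((l - 1) / 2 + (l - 1) / 2))
  have hsi : IsIntegral ℤ (star (gaussSum Y ψl)) := by
    rw [star_gaussSum_eq]
    exact isIntegral_gaussSum _ _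
  have hfinal : u - 1 = l * (w' * (-star (gaussSum Y ψl) * (q : ℂ) ^ ((l - 1) / 2)) -
      n2 * (u - 1)) := by
    have h5 : (u - 1) * B = l * w' := by rw [← hAB, hAu]; ring
    have h6 : (u - 1) * (1 + l * n2) =
        l * w' * (-star (gaussSum Y ψl) * (q : ℂ) ^ ((l - 1) / 2)) := by
      rw [← hn2, ← hBs, ← h5]
      ring
    linear_combination h6
  have hu1 : u = 1 := by
    refine eq_one_of_modEq hl hl2 hul ?_ hfinal
    refine IsIntegral.sub (hw'.mul (hsi.neg.mul ?_)) (IsIntegral.mul ?_ (hui.sub isIntegral_one))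
    · have hi := (isIntegral_algebraMap (R := ℤ) (A := ℂ) (x := (q : ℤ))).pow ((l - 1) / 2)
      simpa using hi
    · exact isIntegral_algebraMap (R := ℤ) (A := ℂ) (x := n2)
  rw [hAu, hu1, one_mul]

end Cfsg.Agent.H295.KGV
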